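import Groth.Prelude.Def_WeakSerre
import Mathlib.CategoryTheory.Adjunction.FullyFaithful
import Mathlib.Algebra.Homology.ShortComplex.ExactFunctor
import Mathlib.CategoryTheory.Abelian.Basic

/-!
# The essential image of a weak Serre subcategory under an exact fully faithful left adjoint
-/

set_option autoImplicit false
universe v₁ v₂ u₁ u₂

open CategoryTheory CategoryTheory.Limits

namespace K371.EssSerre

variable {A : Type u₁} [Category.{v₁} A] [Abelian A] {B : Type u₂} [Category.{v₂} B] [Abelian B]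
  (L : A ⥤ B) (R : B ⥤ A) (adj : L ⊣ R) [PreservesFiniteLimits L]
  (hu : ∀ F, IsIso (adj.unit.app F))

include adj hu in
theorem isWeakSerre_essImage
    (hR : ∀ (T : ShortComplex B), T.ShortExact → (∃ G, Nonempty (L.obj G ≅ T.X₁)) →
      Epi (R.map T.g)) (S : ObjectProperty A) [WSerre.IsWeakSerre S] :
    WSerre.IsWeakSerre (fun F : B => ∃ G : A, S G ∧ Nonempty (L.obj G ≅ F)) := by
  have : IsIso adj.unit := NatIso.isIso_of_isIso_app _
  have hL : L.FullyFaithful := adj.fullyFaithfulLOfIsIsoUnit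
  have : L.Full := hL.full
  have : L.Faithful := hL.faithful
  have : PreservesColimits L := adj.leftAdjoint_preservesColimits
  have : PreservesLimits R := adj.rightAdjoint_preservesLimits
  have : L.Additive := Functor.additive_of_preserves_binary_products L
  have : R.Additive := Functor.additive_of_preserves_binary_products R
  refine { exists_zero := ?_, kernels_le := ?_, cokernels_le := ?_, prop_X₂_of_shortExact := ?_ }
  · obtain ⟨Z, hZ, hSZ⟩ := S.exists_prop_of_containsZero
    exact ⟨L.obj Z, L.map_isZero hZ, Z, hSZ, ⟨Iso.refl _⟩⟩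
  · rintro _ ⟨f, k, hk, ⟨G, hG, ⟨e⟩⟩, ⟨G', hG', ⟨e'⟩⟩⟩
    obtain ⟨g, hg⟩ := L.map_surjective (e.hom ≫ f ≫ e'.inv)
    refine ⟨kernel g, S.prop_kernel g hG hG', ⟨?_⟩⟩
    exact PreservesKernel.iso L g ≪≫ kernel.mapIso (L.map g) f e e' (by rw [hg]; simp) ≪≫
      (kernelIsKernel f).conePointUniqueUpToIso hk
  · rintro _ ⟨f, k, hk, ⟨G, hG, ⟨e⟩⟩, ⟨G', hG', ⟨e'⟩⟩⟩
    obtain ⟨g, hg⟩ := L.map_surjective (e.hom ≫ f ≫ e'.inv)
    refine ⟨cokernel g, S.prop_cokernel g hG hG', ⟨?_⟩⟩
    exact PreservesCokernel.iso L g ≪≫ cokernel.mapIso (L.map g) f e e' (by rw [hg]; simp) ≪≫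
      (cokernelIsCokernel f).coconePointUniqueUpToIso hk
  · rintro T hT ⟨G, hG, ⟨e⟩⟩ ⟨G', hG', ⟨e'⟩⟩
    have hepi : Epi (R.map T.g) := hR T hT ⟨G, ⟨e⟩⟩
    have hRT : (T.map R).ShortExact := by
      have := hT.mono_f
      refine ShortComplex.ShortExact.mk' ?_ (inferInstanceAs (Mono (R.map T.f))) hepi
      exact hT.exact.map_of_mono_of_preservesKernel R hT.mono_f inferInstance
    have h1 : S (T.map R).X₁ := S.prop_of_iso (asIso (adj.unit.app G) ≪≫ R.mapIso e) hG
    have h3 : S (T.map R).X₃ := S.prop_of_iso (asIso (adj.unit.app G') ≪≫ R.mapIso e') hG'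
    have h2 : S (R.obj T.X₂) := S.prop_X₂_of_shortExact hRT h1 h3
    have hLRT : ((T.map R).map L).ShortExact := hRT.map_of_exact L
    have hc : ∀ (K : A) (Y : B) (_ : L.obj K ≅ Y), IsIso (adj.counit.app Y) := by
      intro K Y e
      have h4 : IsIso (adj.counit.app (L.obj K)) := by
        have := adj.left_triangle_components K
        exact IsIso.of_isIso_fac_left this
      have h5 := adj.counit.naturality e.hom
      have h6 : IsIso ((R ⋙ L).map e.hom ≫ adj.counit.app Y) := by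
        rw [h5]; infer_instance
      exact IsIso.of_isIso_comp_left ((R ⋙ L).map e.hom) _
    let φ : (T.map R).map L ⟶ T :=
      { τ₁ := adj.counit.app T.X₁
        τ₂ := adj.counit.app T.X₂
        τ₃ := adj.counit.app T.X₃
        comm₁₂ := (adj.counit.naturality T.f).symm
        comm₂₃ := (adj.counit.naturality T.g).symm }
    have i1 : IsIso φ.τ₁ := hc _ _ e
    have i3 : IsIso φ.τ₃ := hc _ _ e'
    have i2 : IsIso φ.τ₂ := ShortComplex.isIso₂_of_shortExact_of_isIso₁₃ φ hLRT hT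
    exact ⟨R.obj T.X₂, h2, ⟨@asIso _ _ _ _ φ.τ₂ i2⟩⟩

end K371.EssSerre
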