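import Groth.Agent.ProEtS.K371.OverMapShriek
import Groth.Agent.Etbase.LanFlat
import Mathlib.AlgebraicGeometry.Sites.Proetale

/-!
# Big and small pro-étale sites
-/

set_option autoImplicit false
open CategoryTheory CategoryTheory.Limits AlgebraicGeometry Opposite

namespace K371.BigSmall

universe u

/-- The pullback from the small pro-étale site to the big one is exact. -/
theorem preservesFiniteLimits_sheafPullback (T : Scheme.{u}) :
    PreservesFiniteLimits ((Scheme.ProEt.forget T).sheafPullback AddCommGrpCat.{u + 1}
      (Scheme.ProEt.topology T) (Scheme.proetaleTopology.over T)) := by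
  have hfl : ∀ K : (Over T)ᵒᵖ, IsFiltered (CostructuredArrow (Scheme.ProEt.forget T).op K) := fun K =>
    IsFiltered.of_equivalence (structuredArrowOpEquivalence (Scheme.ProEt.forget T) (unop K))
  have : ∀ K : (Over T)ᵒᵖ, HasColimitsOfShape (CostructuredArrow (Scheme.ProEt.forget T).op K)
      AddCommGrpCat.{u + 1} := fun K => inferInstance
  have : PreservesFiniteLimits ((Scheme.ProEt.forget T).op.lan :
      (_ ⥤ AddCommGrpCat.{u + 1}) ⥤ (Over T)ᵒᵖ ⥤ AddCommGrpCat.{u + 1}) :=
    Groth.Agent.Etbase.LanFlat.preservesFiniteLimits_op_lan _ _ (fun K => by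
      have := hfl K
      have : HasFilteredColimitsOfSize.{u, u + 1} AddCommGrpCat.{u + 1} :=
        hasFilteredColimitsOfSize_shrink.{u, u + 1, u + 1, u + 1}
      have : AB5OfSize.{u, u + 1} AddCommGrpCat.{u + 1} := AB5OfSize_shrink.{u, u + 1, u + 1, u + 1} _
      exact HasExactColimitsOfShape.preservesFiniteLimits)
  exact Functor.sheafPullbackConstruction.preservesFiniteLimits _ _ _ _

/-- Restriction from the big to the small pro-étale site preserves injectives. -/
theorem injective_restrict (T : Scheme.{u})
    (I : Sheaf (Scheme.proetaleTopology.over T) AddCommGrpCat.{u + 1}) [Injective I] :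
    Injective (((Scheme.ProEt.forget T).sheafPushforwardContinuous AddCommGrpCat.{u + 1}
      (Scheme.ProEt.topology T) (Scheme.proetaleTopology.over T)).obj I) := by
  have := preservesFiniteLimits_sheafPullback T
  exact Injective.injective_of_adjoint
    ((Scheme.ProEt.forget T).sheafAdjunctionContinuous AddCommGrpCat.{u + 1}
      (Scheme.ProEt.topology T) (Scheme.proetaleTopology.over T)) I

theorem injective_restrict_map {T S : Scheme.{u}} (f : T ⟶ S)
    [(Scheme.ProEt.forget T ⋙ Over.map f).IsContinuous (Scheme.ProEt.topology T)
      (Scheme.proetaleTopology.over S)]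
    (I : Sheaf (Scheme.proetaleTopology.over S) AddCommGrpCat.{u + 1}) [Injective I] :
    Injective (((Scheme.ProEt.forget T ⋙ Over.map f).sheafPushforwardContinuous
      AddCommGrpCat.{u + 1}
      (Scheme.ProEt.topology T) (Scheme.proetaleTopology.over S)).obj I) := by
  have h1 := OverMapShriek.injective_overMapPullback f Scheme.proetaleTopology I
  exact injective_restrict T ((Scheme.proetaleTopology.overMapPullback AddCommGrpCat.{u + 1} f).obj I)

end K371.BigSmall
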