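import Groth.Agent.Sga4h.FunLES
import Groth.Prelude.Def_ProEtS
import Mathlib.AlgebraicGeometry.Sites.Proetale
import Mathlib.CategoryTheory.Sites.CoverLifting
import Mathlib.CategoryTheory.Sites.Pullback
import Mathlib.CategoryTheory.Adjunction.Triple
import Mathlib.CategoryTheory.Sites.Abelian

/-!
# Restriction from the big to the small pro-étale site is exact; the unit is an isomorphism
-/

set_option autoImplicit false
open CategoryTheory CategoryTheory.Limits AlgebraicGeometry Opposite

namespace K371.BigSmallUnit

universe u

/-- The inclusion of the small pro-étale site in the big one is cocontinuous. -/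
theorem isCocontinuous_forget (S : Scheme.{u}) :
    (Scheme.ProEt.forget S).IsCocontinuous (Scheme.ProEt.topology S)
      (Scheme.proetaleTopology.over S) := by
  have h := MorphismProperty.toGrothendieck_comap_forget_eq_restrictedTopology (S := S)
    Scheme.proetalePrecoverage Scheme.proetalePrecoverage_le_precoverage_weaklyEtale
  have h' : Scheme.ProEt.topology S =
    (Scheme.ProEt.forget S).restrictedTopology (Scheme.proetaleTopology.over S) := h
  rw [h']
  infer_instance

section General

variable {C : Type*} [Category* C] {D : Type*} [Category* D] (G : C ⥤ D) [G.Full] [G.Faithful]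
  (A : Type*) [Category* A] (J : GrothendieckTopology C) (K : GrothendieckTopology D)
  [G.IsCocontinuous J K] [G.IsContinuous J K]
  [∀ F : Cᵒᵖ ⥤ A, G.op.HasPointwiseRightKanExtension F]
  [(G.sheafPushforwardContinuous A J K).IsRightAdjoint]

theorem isIso_counit :
    IsIso (G.sheafAdjunctionCocontinuous A J K).counit := by
  have : ∀ F, IsIso ((G.sheafAdjunctionCocontinuous A J K).counit.app F) := by
    intro F
    have h : IsIso ((sheafToPresheaf J A).map ((G.sheafAdjunctionCocontinuous A J K).counit.app F)) := by
      change IsIso ((G.sheafAdjunctionCocontinuous A J K).counit.app F).hom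
      rw [G.sheafAdjunctionCocontinuous_counit_app_hom]
      have : IsIso (G.op.ranAdjunction A).counit := Functor.reflective' G.op
      exact NatIso.isIso_app_of_isIso _ _
    exact isIso_of_fully_faithful (sheafToPresheaf J A) _
  exact NatIso.isIso_of_isIso_app _

theorem isIso_unit :
    IsIso (G.sheafAdjunctionContinuous A J K).unit :=
  (Adjunction.Triple.mk (G.sheafAdjunctionContinuous A J K)
    (G.sheafAdjunctionCocontinuous A J K)).isIso_unit_iff_isIso_counit.2 (isIso_counit G A J K)

end General

theorem result (S : Scheme.{u})
    [((Scheme.ProEt.forget S).sheafPushforwardContinuous AddCommGrpCat.{u + 1} (Scheme.ProEt.topology S)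
      (Scheme.proetaleTopology.over S)).Additive]
    [HasInjectiveResolutions (Sheaf (Scheme.proetaleTopology.over S) AddCommGrpCat.{u + 1})]
    (F : Sheaf (Scheme.ProEt.topology S) AddCommGrpCat.{u + 1}) :
    IsIso (((Scheme.ProEt.forget S).sheafAdjunctionContinuous AddCommGrpCat.{u + 1}
      (Scheme.ProEt.topology S) (Scheme.proetaleTopology.over S)).unit.app F) ∧
    ∀ q : ℕ, 0 < q →
      IsZero ((((Scheme.ProEt.forget S).sheafPushforwardContinuous AddCommGrpCat.{u + 1}
        (Scheme.ProEt.topology S) (Scheme.proetaleTopology.over S)).rightDerived q).obj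
        (((Scheme.ProEt.forget S).sheafPullback AddCommGrpCat.{u + 1} (Scheme.ProEt.topology S)
          (Scheme.proetaleTopology.over S)).obj F)) := by
  have := isCocontinuous_forget S
  constructor
  · have := isIso_unit (Scheme.ProEt.forget S) AddCommGrpCat.{u + 1} (Scheme.ProEt.topology S)
      (Scheme.proetaleTopology.over S)
    infer_instance
  · intro q hq
    obtain ⟨n, rfl⟩ : ∃ n, q = n + 1 := ⟨q - 1, by omega⟩
    have h1 : PreservesFiniteLimits ((Scheme.ProEt.forget S).sheafPushforwardContinuous
        AddCommGrpCat.{u + 1} (Scheme.ProEt.topology S) (Scheme.proetaleTopology.over S)) := by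
      have := ((Scheme.ProEt.forget S).sheafAdjunctionContinuous AddCommGrpCat.{u + 1}
        (Scheme.ProEt.topology S) (Scheme.proetaleTopology.over S)).rightAdjoint_preservesLimits
      infer_instance
    have h2 : PreservesFiniteColimits ((Scheme.ProEt.forget S).sheafPushforwardContinuous
        AddCommGrpCat.{u + 1} (Scheme.ProEt.topology S) (Scheme.proetaleTopology.over S)) := by
      have := ((Scheme.ProEt.forget S).sheafAdjunctionCocontinuous AddCommGrpCat.{u + 1}
        (Scheme.ProEt.topology S) (Scheme.proetaleTopology.over S)).leftAdjoint_preservesColimits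
      infer_instance
    exact Groth.Agent.Sga4h.FunLES.isZero_rightDerived_of_exact _ _ _

end K371.BigSmallUnit
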