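import Groth.Agent.Proet.WCSheafify
import Groth.Agent.Proet.Cont
import Mathlib.CategoryTheory.Functor.KanExtension.Adjunction
import Mathlib.CategoryTheory.Functor.KanExtension.Pointwise
import Mathlib.CategoryTheory.Functor.Flat
import Mathlib.CategoryTheory.Limits.ConcreteCategory.Filtered

/-!
# Left Kan extension of presheaves of types along a flat functor; finite disjoint unions
-/

set_option autoImplicit false
universe w v₁ v₂ u₁ u₂ u v

open CategoryTheory CategoryTheory.Limits Opposite

namespace K371.LanTypes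

section General

variable {C : Type u₁} [Category.{v₁} C] {D : Type u₂} [Category.{v₂} D] (F : C ⥤ D)
  [∀ V : Dᵒᵖ, HasColimitsOfShape (CostructuredArrow F.op V) (Type w)]
  (P : Cᵒᵖ ⥤ Type w)

/-- The presheaf pullback. -/
noncomputable abbrev G : Dᵒᵖ ⥤ Type w := F.op.leftKanExtension P

/-- The unit of the presheaf pullback. -/
noncomputable abbrev α : P ⟶ F.op ⋙ G F P := F.op.leftKanExtensionUnit P

/-- The pointwise colimit property. -/
noncomputable def isColimit (V : D) :
    IsColimit (Functor.LeftExtension.coconeAt (Functor.LeftExtension.mk _ (α F P)) (op V)) :=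
  F.op.isPointwiseLeftKanExtensionLeftKanExtensionUnit P (op V)

/-- The class of `(g : V ⟶ F U, s ∈ P U)` in `G F P` over `V`. -/
noncomputable def cls {V : D} {U : C} (g : V ⟶ F.obj U) (s : P.obj (op U)) :
    (G F P).obj (op V) :=
  (G F P).map g.op ((α F P).app (op U) s)

theorem map_cls {V V' : D} {U : C} (g : V ⟶ F.obj U) (s : P.obj (op U)) (f : V' ⟶ V) :
    (G F P).map f.op (cls F P g s) = cls F P (f ≫ g) s := by
  unfold cls
  rw [op_comp, Functor.map_comp]
  rfl

theorem cls_comp {V : D} {U U' : C} (g : V ⟶ F.obj U') (h : U' ⟶ U) (s : P.obj (op U)) :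
    cls F P (g ≫ F.map h) s = cls F P g (P.map h.op s) := by
  unfold cls
  have := ConcreteCategory.congr_hom ((α F P).naturality h.op) s
  rw [op_comp, Functor.map_comp]
  exact congrArg ((G F P).map g.op) this.symm

theorem exists_rep {V : D} (x : (G F P).obj (op V)) :
    ∃ (U : C) (g : V ⟶ F.obj U) (s : P.obj (op U)), cls F P g s = x := by
  have : PreservesColimit (CostructuredArrow.proj F.op (op V) ⋙ P) (forget (Type w)) := by
    infer_instance
  obtain ⟨j, y, hy⟩ := Concrete.isColimit_exists_rep _ (isColimit F P V) x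
  refine ⟨j.left.unop, j.hom.unop, y, ?_⟩
  rw [← hy]
  rfl

theorem exists_of_eq [RepresentablyFlat F] {V : D} {U U' : C} (g : V ⟶ F.obj U) (s : P.obj (op U))
    (g' : V ⟶ F.obj U') (s' : P.obj (op U'))
    (h0 : cls F P g s = cls F P g' s') :
    ∃ (U'' : C) (g'' : V ⟶ F.obj U'') (h : U'' ⟶ U) (h' : U'' ⟶ U'), g'' ≫ F.map h = g ∧
      g'' ≫ F.map h' = g' ∧ P.map h.op s = P.map h'.op s' := by
  have : PreservesColimit (CostructuredArrow.proj F.op (op V) ⋙ P) (forget (Type w)) := by
    infer_instance
  let i : CostructuredArrow F.op (op V) := CostructuredArrow.mk (Y := op U) g.op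
  let j : CostructuredArrow F.op (op V) := CostructuredArrow.mk (Y := op U') g'.op
  obtain ⟨k, f, f', hf⟩ := Concrete.isColimit_exists_of_rep_eq
    (CostructuredArrow.proj F.op (op V) ⋙ P) (isColimit F P V) (i := i) (j := j) s s' h0
  refine ⟨k.left.unop, k.hom.unop, f.left.unop, f'.left.unop, ?_, ?_, hf⟩
  · have := CostructuredArrow.w f
    apply Quiver.Hom.op_inj
    exact this
  · have := CostructuredArrow.w f'
    apply Quiver.Hom.op_inj
    exact this

end General

/-- A fan of types which is bijective onto the product is a limit. -/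
theorem nonempty_isLimit_fan {ι : Type v} {Z : ι → Type w} {P : Type w} (g : ∀ i, P ⟶ Z i)
    (h : Function.Bijective (fun (x : P) (i : ι) => g i x)) : Nonempty (IsLimit (Fan.mk P g)) := by
  choose d hd using h.2
  refine ⟨Fan.IsLimit.mk _ (fun s => ↾fun x => d (fun i => s.proj i x)) (fun s i => ?_)
    (fun s m hm => ?_)⟩
  · ext x
    exact congrFun (hd (fun i => s.proj i x)) i
  · ext x
    apply h.1
    funext i
    exact (ConcreteCategory.congr_hom (hm i) x).trans (congrFun (hd (fun i => s.proj i x)) i).symm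

section ProEt

open AlgebraicGeometry Groth.Agent.Proet Groth.Agent.Proet.WCBasic Groth.Agent.Proet.WCSheafify

variable {X Y : Scheme.{u}}

set_option backward.isDefEq.respectTransparency.types false in
/-- A presheaf of types on the small pro-etale site turning finite disjoint unions `sigmaObj` into
products preserves finite products. -/
theorem preservesFiniteProducts_of_bijective (F : X.ProEtᵒᵖ ⥤ Type w)
    (h : ∀ (n : ℕ) (W : Fin n → X.ProEt), Function.Bijective
      (fun (s : F.obj (op (sigmaObj W))) (i : Fin n) => F.map (sigmaι W i).op s)) :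
    PreservesFiniteProducts F := by
  constructor
  intro n
  refine ⟨fun {K} => ?_⟩
  let W : Fin n → X.ProEt := fun i => (K.obj ⟨i⟩).unop
  obtain ⟨hc⟩ := nonempty_isColimit_of_disjoint (sigmaι W) (sigmaι_openImmersion W)
    (sigmaι_cover W) (sigmaι_disjoint W)
  have hc' := Cofan.IsColimit.op hc
  have key : PreservesLimit (Discrete.functor fun i => op (W i)) F := by
    refine preservesLimit_of_preserves_limit_cone hc' ?_
    exact (isLimitMapConeFanMkEquiv F _ _).symm (nonempty_isLimit_fan _ (h n W)).some
  have key' : PreservesLimit (Discrete.functor (K.obj ∘ Discrete.mk)) F := key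
  exact preservesLimit_of_iso_diagram F (Discrete.natIsoFunctor (F := K)).symm

/-- Morphisms out of a disjoint union. -/
theorem sigma_hom_ext {ι : Type v} [Small.{u} ι] {W : ι → X.ProEt} {U : X.ProEt}
    {a b : sigmaObj W ⟶ U} (h : ∀ i, sigmaι W i ≫ a = sigmaι W i ≫ b) : a = b := by
  obtain ⟨hc⟩ := nonempty_isColimit_of_disjoint (sigmaι W) (sigmaι_openImmersion W)
    (sigmaι_cover W) (sigmaι_disjoint W)
  exact Cofan.IsColimit.hom_ext hc _ _ h

set_option backward.isDefEq.respectTransparency.types false in
theorem bijective_lan (f : X ⟶ Y)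
    (F : Y.ProEtᵒᵖ ⥤ Type (u + 1)) (hF : Presieve.IsSheaf (Scheme.ProEt.topology Y) F)
    {ι : Type v} [Small.{u} ι] (W : ι → X.ProEt) :
    Function.Bijective (fun (s : (G (ProEtS.bcP f) F).obj (op (sigmaObj W))) (i : ι) =>
      (G (ProEtS.bcP f) F).map (sigmaι W i).op s) := by
  have := Cont.preservesFiniteLimits_bcP f
  have : RepresentablyFlat (ProEtS.bcP f) := flat_of_preservesFiniteLimits _
  constructor
  · intro x y hxy
    obtain ⟨U, g, s, rfl⟩ := exists_rep (ProEtS.bcP f) F x
    obtain ⟨U', g', s', rfl⟩ := exists_rep (ProEtS.bcP f) F y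
    have h1 : ∀ i, cls (ProEtS.bcP f) F (sigmaι W i ≫ g) s =
        cls (ProEtS.bcP f) F (sigmaι W i ≫ g') s' := by
      intro i
      rw [← map_cls, ← map_cls]
      exact congrFun hxy i
    choose V k a b hka hkb hab using fun i => exists_of_eq (ProEtS.bcP f) F _ _ _ _ (h1 i)
    let k' : sigmaObj W ⟶ (ProEtS.bcP f).obj (sigmaObj V) :=
      sigmaDesc W fun i => k i ≫ (ProEtS.bcP f).map (sigmaι V i)
    have h2 : k' ≫ (ProEtS.bcP f).map (sigmaDesc V a) = g := by
      refine sigma_hom_ext fun i => ?_
      rw [← Category.assoc, sigmaι_desc, Category.assoc, ← Functor.map_comp, sigmaι_desc, hka]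
    have h3 : k' ≫ (ProEtS.bcP f).map (sigmaDesc V b) = g' := by
      refine sigma_hom_ext fun i => ?_
      rw [← Category.assoc, sigmaι_desc, Category.assoc, ← Functor.map_comp, sigmaι_desc, hkb]
    have h4 : F.map (sigmaDesc V a).op s = F.map (sigmaDesc V b).op s' := by
      apply (bijective_sigma V hF).1
      funext i
      simp only [← Functor.map_comp_apply, ← op_comp, sigmaι_desc]
      exact hab i
    rw [← h2, ← h3, cls_comp, cls_comp, h4]
  · intro x
    choose U g s hs using fun i => exists_rep (ProEtS.bcP f) F (x i)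
    obtain ⟨t, ht⟩ := (bijective_sigma U hF).2 s
    refine ⟨cls (ProEtS.bcP f) F (sigmaDesc W fun i => g i ≫ (ProEtS.bcP f).map (sigmaι U i)) t, ?_⟩
    funext i
    dsimp only
    rw [map_cls, sigmaι_desc, cls_comp, ← hs i]
    exact congrArg _ (congrFun ht i)

end ProEt

end K371.LanTypes
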