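import Groth.Agent.ProEtS.K371.VanLocus
import Groth.Agent.Proet.BCLim229
import Groth.Agent.Proet.PullLim
import Groth.Agent.Proet.ShElem
import Groth.Agent.Proet.EpsBasic
import Groth.Agent.CohtopA.FiltColim

/-!
# Sections of `eps⁻¹ F` over cofiltered limits in the small pro-etale site
-/

set_option autoImplicit false
universe u

open CategoryTheory CategoryTheory.Limits AlgebraicGeometry Opposite

namespace K371.LimSec

set_option backward.isDefEq.respectTransparency.types false

open Groth.Agent Groth.Agent.Proet Groth.Agent.Proet.RpushEps Groth.Agent.Proet.EpsSec229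
  Groth.Agent.EtpbcA.EqLocus K371.VanLocus

variable {X : Scheme.{u}}

/-- the morphism to the final object -/
noncomputable def toTop (W : X.ProEt) : W ⟶ ProEtS.topP X :=
  MorphismProperty.Over.homMk W.hom (Category.comp_id _)

theorem toTop_uniq {W : X.ProEt} (f g : W ⟶ ProEtS.topP X) : f = g :=
  (EpsBasic.topPIsTerminal X).hom_ext f g

/-- the schemes of a diagram of the pro-etale site -/
abbrev Φ (X : Scheme.{u}) : X.ProEt ⥤ Scheme.{u} := Scheme.ProEt.forget X ⋙ Over.forget X

variable {I : Type u} [SmallCategory I] [IsCofiltered I] (D : I ⥤ X.ProEt) (c : Cone D)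
  (hc : IsLimit ((Φ X).mapCone c))
  (haff : ∀ {i j : I} (a : i ⟶ j), IsAffineHom (D.map a).left)
  [ProEtS.EpsCont X] {F : EtCoh.Ab X}

include hc haff in
theorem exists_res_eq_zero {j : I} {Q : X.ProEt} [CompactSpace Q.left] (q : Q ⟶ D.obj j)
    (δ : Sec F Q)
    (h : ∀ (P : X.ProEt) (a : P ⟶ Q) (b : P ⟶ c.pt), a ≫ q = b ≫ c.π.app j → res a δ = 0) :
    ∃ (k : I) (t : k ⟶ j), ∀ (P : X.ProEt) (a : P ⟶ Q) (b : P ⟶ D.obj k),
      a ≫ q = b ≫ D.map t → res a δ = 0 := by
  let O : Q.left.Opens := ⟨Van δ, isOpen_van δ⟩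
  have h1 : ∀ {i j : I} (f : i ⟶ j), IsAffineHom ((D ⋙ Φ X).map f) := fun f => haff f
  have sq := EpsB0.isPullback_left (IsPullback.of_hasPullback q (c.π.app j))
  obtain ⟨k, t, H⟩ := BCLim229.exists_range_subset (D ⋙ Φ X) ((Φ X).mapCone c) hc (j := j)
    (Q := Q.left) q.left O (a := (pullback.fst q (c.π.app j)).left)
    (b := (pullback.snd q (c.π.app j)).left) sq (by
      have h2 := h _ (pullback.fst q (c.π.app j)) (pullback.snd q (c.π.app j)) pullback.condition
      rintro _ ⟨x, rfl⟩
      exact ⟨_, pullback.fst q (c.π.app j), x, rfl, h2⟩)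
  refine ⟨k, t, fun P a b hab => res_eq_zero_of_range_subset a δ ?_⟩
  exact H (a' := a.left) (b' := b.left) congr($(hab).left)

omit [ProEtS.EpsCont X] in
theorem etale_left_of_isPullback {P V W U : X.ProEt} {p : P ⟶ V} {q : P ⟶ W} {f : V ⟶ U}
    {g : W ⟶ U} (h : IsPullback p q f g) (hg : Etale g.left) : Etale p.left :=
  MorphismProperty.of_isPullback (P := @Etale) (EpsB0.isPullback_left h).flip hg

omit [ProEtS.EpsCont X] in
theorem affine_left_of_isPullback {P V W U : X.ProEt} {p : P ⟶ V} {q : P ⟶ W} {f : V ⟶ U}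
    {g : W ⟶ U} (h : IsPullback p q f g) (hg : IsAffineHom g.left) : IsAffineHom p.left :=
  MorphismProperty.of_isPullback (P := @IsAffineHom) (EpsB0.isPullback_left h).flip hg

include hc haff in
theorem exists_local (y : Sec F c.pt) (t : c.pt.left) :
    ∃ (k : I) (Q : X.ProEt) (q : Q ⟶ D.obj k) (x : Sec F Q), IsAffine Q.left ∧ Etale q.left ∧
      (∀ (P : X.ProEt) (a : P ⟶ Q) (b : P ⟶ c.pt), a ≫ q = b ≫ c.π.app k → res a x = res b y) ∧
      (c.π.app k).left t ∈ Set.range q.left := by
  obtain ⟨i0⟩ := IsCofiltered.nonempty (C := I)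
  obtain ⟨U, s, H⟩ := exists_etale_rep y t
  let Q0 : X.ProEt := pullback (toTop (D.obj i0)) (toTop ((ProEtS.eps X).obj U))
  let e : Q0 ⟶ D.obj i0 := pullback.fst _ _
  let r : Q0 ⟶ (ProEtS.eps X).obj U := pullback.snd _ _
  have hQ0 : IsPullback e r (toTop (D.obj i0)) (toTop ((ProEtS.eps X).obj U)) :=
    IsPullback.of_hasPullback _ _
  have he : Etale e.left := etale_left_of_isPullback hQ0 U.prop
  let E : X.ProEt := pullback (c.π.app i0) e
  let p : E ⟶ c.pt := pullback.fst _ _
  let q : E ⟶ Q0 := pullback.snd _ _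
  have h : IsPullback p q (c.π.app i0) e := IsPullback.of_hasPullback _ _
  obtain ⟨o, ho1, ho2⟩ := H E p (q ≫ r) (fun Z a b => by
    let w : Z ⟶ Q0 := hQ0.lift (a ≫ c.π.app i0) b (toTop_uniq _ _)
    refine ⟨h.lift a w ?_, h.lift_fst _ _ _, ?_⟩
    · exact (hQ0.lift_fst _ _ _).symm
    · rw [← Category.assoc, h.lift_snd]
      exact hQ0.lift_snd _ _ _)
  have hpb : PreservesLimitsOfShape WalkingCospan (Φ X) := inferInstance
  obtain ⟨hl⟩ := PullLim.isLimit_left (Φ X) D e p q h hc
  have haff' : ∀ {a b : Over i0} (f : a ⟶ b),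
      IsAffineHom ((PullLim.AF D e ⋙ Arrow.leftFunc ⋙ Φ X).map f) := fun {a b} f =>
    affine_left_of_isPullback (PullLim.isPullback_Lmap D e f) (haff f.left)
  obtain ⟨_, ⟨a, V, hV, rfl⟩, hoV, hVle⟩ := TopologicalSpace.Opens.isBasis_iff_nbhd.1
    (isBasis_preimage_isAffineOpen (PullLim.AF D e ⋙ Arrow.leftFunc ⋙ Φ X) _ hl)
    (U := ⟨Van (res p y - br F (q ≫ r) s), isOpen_van _⟩) (x := o) ho2
  let πa : E ⟶ PullLim.L D e a := PullLim.πL D e p q h a
  let V' : (PullLim.L D e a).left.Opens := V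
  have hV' : IsAffineOpen V' := hV
  have hoV' : πa.left o ∈ V' := hoV
  have hle : ∀ o' : E.left, πa.left o' ∈ V' → o' ∈ Van (res p y - br F (q ≫ r) s) :=
    fun o' ho' => hVle ho'
  let Q : X.ProEt := WCClopen.openObj (PullLim.L D e a) V'
  let ι : Q ⟶ PullLim.L D e a := WCClopen.openHom (PullLim.L D e a) V'
  have hfst : Etale (PullLim.fst D e a).left :=
    etale_left_of_isPullback (PullLim.isPullback D e a) he
  refine ⟨a.left, Q, ι ≫ PullLim.fst D e a, br F ((ι ≫ PullLim.snd D e a) ≫ r) s, hV',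
    inferInstanceAs (Etale (V'.ι ≫ (PullLim.fst D e a).left)), ?_, ?_⟩
  · intro P α β hαβ
    have hw : β ≫ c.π.app i0 = (α ≫ ι ≫ PullLim.snd D e a) ≫ e := by
      rw [← c.w a.hom, ← Category.assoc, ← hαβ]
      simp only [Category.assoc]
      rw [(PullLim.isPullback D e a).w]
    let γ : P ⟶ E := h.lift β (α ≫ ι ≫ PullLim.snd D e a) hw
    have hγ1 : γ ≫ p = β := h.lift_fst _ _ _
    have hγ2 : γ ≫ q = α ≫ ι ≫ PullLim.snd D e a := h.lift_snd _ _ _
    have hγ3 : γ ≫ πa = α ≫ ι := by
      apply (PullLim.isPullback D e a).hom_ext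
      · rw [Category.assoc, PullLim.πL_fst, ← Category.assoc, hγ1, ← hαβ, Category.assoc]
      · rw [Category.assoc, PullLim.πL_snd, hγ2, Category.assoc]
    have hz : res γ (res p y - br F (q ≫ r) s) = 0 := by
      apply res_eq_zero_of_range_subset
      rintro _ ⟨x, rfl⟩
      apply hle
      have : (γ ≫ πa).left x = (α ≫ ι).left x := by rw [hγ3]
      have h2 : πa.left (γ.left x) = V'.ι (α.left x) := this
      rw [h2]
      exact (α.left x).2
    rw [res_sub, sub_eq_zero, ← res_comp, hγ1] at hz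
    rw [hz]
    have h3 : res α (br F ((ι ≫ PullLim.snd D e a) ≫ r) s) =
        br F (α ≫ (ι ≫ PullLim.snd D e a) ≫ r) s := map_br F _ _ s
    have h4 : res γ (br F (q ≫ r) s) = br F (γ ≫ q ≫ r) s := map_br F _ _ s
    rw [h3, h4, ← Category.assoc γ, hγ2]
    simp only [Category.assoc]
  · refine ⟨⟨πa.left o, hoV'⟩, ?_⟩
    have h5 : (πa ≫ PullLim.fst D e a).left o = (p ≫ c.π.app a.left).left o := by
      rw [PullLim.πL_fst]
    have h6 : (PullLim.fst D e a).left (πa.left o) = (c.π.app a.left).left (p.left o) := h5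
    rw [← ho1]
    exact h6

include hc haff in
theorem exists_global [∀ i, CompactSpace (D.obj i).left] (y : Sec F c.pt) :
    ∃ (k : I) (Q : X.ProEt) (q : Q ⟶ D.obj k) (x : Sec F Q), IsAffine Q.left ∧ Etale q.left ∧
      (∀ (P : X.ProEt) (a : P ⟶ Q) (b : P ⟶ c.pt), a ≫ q = b ≫ c.π.app k → res a x = res b y) ∧
      ∀ t, (c.π.app k).left t ∈ Set.range q.left := by
  classical
  have h1 : ∀ {i j : I} (f : i ⟶ j), IsAffineHom ((D ⋙ Φ X).map f) := fun f => haff f
  have h2 : ∀ i, CompactSpace ((D ⋙ Φ X).obj i) := fun i =>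
    inferInstanceAs (CompactSpace (D.obj i).left)
  have hcpt : CompactSpace c.pt.left := Scheme.compactSpace_of_isLimit _ _ hc
  choose k Q q x hQ hq hx ht using fun t => exists_local D c hc haff y t
  have hopen : ∀ t, IsOpen ((c.π.app (k t)).left ⁻¹' Set.range (q t).left) := fun t => by
    have := hq t
    exact ((q t).left.isOpenMap.isOpen_range).preimage (c.π.app (k t)).left.continuous
  obtain ⟨T, hT⟩ := isCompact_univ.elim_finite_subcover _ hopen
    (fun t _ => Set.mem_iUnion.2 ⟨t, ht t⟩)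
  obtain ⟨K, hK⟩ := IsCofiltered.inf_objs_exists (T.image k)
  have f : ∀ t : T, K ⟶ k t.1 := fun t => (hK (Finset.mem_image_of_mem k t.2)).some
  let Q' : T → X.ProEt := fun t => pullback (q t.1) (D.map (f t))
  have hQ' : ∀ t : T, IsPullback (pullback.fst (q t.1) (D.map (f t)))
    (pullback.snd (q t.1) (D.map (f t))) (q t.1) (D.map (f t)) := fun t => IsPullback.of_hasPullback _ _
  have hQa : ∀ t : T, IsAffine (Q' t).left := fun t => by
    have := affine_left_of_isPullback (hQ' t) (haff _)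
    have := hQ t.1
    exact isAffine_of_isAffineHom (pullback.fst (q t.1) (D.map (f t))).left
  let g : WCBasic.sigmaObj Q' ⟶ D.obj K :=
    WCBasic.sigmaDesc Q' fun t => pullback.snd (q t.1) (D.map (f t))
  have hg : ∀ t : T, WCBasic.sigmaι Q' t ≫ g = pullback.snd (q t.1) (D.map (f t)) := fun t =>
    WCBasic.sigmaι_desc Q' _ t
  have hE : Presieve.IsSheaf (Scheme.ProEt.topology X)
      (((ProEtS.epsPull X).obj F).obj ⋙ forget AddCommGrpCat.{u + 1}) :=
    (isSheaf_iff_isSheaf_of_type _ _).1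
      (GrothendieckTopology.HasSheafCompose.isSheaf _ ((ProEtS.epsPull X).obj F).property)
  obtain ⟨x', hx'⟩ := (WCBasic.bijective_sigma Q' hE).2
    (fun t => res (pullback.fst (q t.1) (D.map (f t))) (x t.1))
  have hx'' : ∀ t : T, res (WCBasic.sigmaι Q' t) x' =
    res (pullback.fst (q t.1) (D.map (f t))) (x t.1) := fun t => congrFun hx' t
  refine ⟨K, WCBasic.sigmaObj Q', g, x', WCBasic.isAffine_sigmaObj Q' hQa, ?_, ?_, ?_⟩
  · refine IsZariskiLocalAtSource.sigmaDesc (P := @Etale) fun t => ?_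
    have := etale_left_of_isPullback (hQ' t).flip (hq t.1)
    exact this
  · intro P a b hab
    rw [← sub_eq_zero]
    apply eq_zero_of_van_eq_univ
    ext o
    simp only [Set.mem_univ, iff_true]
    obtain ⟨t, z, hz⟩ := WCBasic.sigmaι_cover Q' (a.left o)
    obtain ⟨P', a', b', o', h1, -, ho'⟩ := exists_pullback (WCBasic.sigmaι Q' t) a z o hz
    refine ⟨P', b', o', ho', ?_⟩
    rw [res_sub, sub_eq_zero, ← res_comp, ← res_comp, ← h1, res_comp, hx'', ← res_comp]
    refine hx t.1 P' _ _ ?_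
    rw [Category.assoc, (hQ' t).w, ← Category.assoc, ← hg, ← Category.assoc, h1, Category.assoc b',
      hab, Category.assoc, Category.assoc, c.w, Category.assoc]
  · intro t'
    obtain ⟨t, ht', v, hv⟩ : ∃ t ∈ T, (c.π.app (k t)).left t' ∈ Set.range (q t).left := by
      have := hT (Set.mem_univ t')
      simp only [Set.mem_iUnion] at this
      obtain ⟨t, ht, h⟩ := this
      exact ⟨t, ht, h⟩
    let t0 : T := ⟨t, ht'⟩
    have e1 : (D.map (f t0)).left ((c.π.app K).left t') = (c.π.app (k t)).left t' := by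
      have : (c.π.app K ≫ D.map (f t0)).left t' = (c.π.app (k t)).left t' := by rw [c.w]
      exact this
    obtain ⟨z, hz1, hz2⟩ := Scheme.exists_preimage_of_isPullback
      (EpsB0.isPullback_left (hQ' t0)) v ((c.π.app K).left t') (hv.trans e1.symm)
    refine ⟨(WCBasic.sigmaι Q' t0).left z, ?_⟩
    have : (WCBasic.sigmaι Q' t0 ≫ g).left z = (c.π.app K).left t' := by
      rw [hg]; exact hz2
    exact this

include hc haff in
theorem exists_section [∀ i, CompactSpace (D.obj i).left]
    [∀ i, QuasiSeparatedSpace (D.obj i).left] (y : Sec F c.pt) :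
    ∃ (l : I) (z : Sec F (D.obj l)), res (c.π.app l) z = y := by
  obtain ⟨k, Q, q, x, hQ, hq, hx, ht⟩ := exists_global D c hc haff y
  have hqc : QuasiCompact q.left := inferInstance
  -- surjectivity at a finite stage
  have h1 : ∀ {i j : I} (f : i ⟶ j), IsAffineHom ((D ⋙ Φ X).map f) := fun f => haff f
  obtain ⟨k1, t1, H1⟩ := BCLim229.exists_range_subset (D ⋙ Φ X) ((Φ X).mapCone c) hc (j := k)
    (Q := (D.obj k).left) (𝟙 _) ⟨Set.range q.left, q.left.isOpenMap.isOpen_range⟩
    (a := (c.π.app k).left) (b := 𝟙 _) (IsPullback.id_vert (c.π.app k).left) (by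
      rintro _ ⟨x, rfl⟩
      exact ht x)
  have hs1 : ∀ v : (D.obj k1).left, (D.map t1).left v ∈ Set.range q.left := fun v =>
    H1 (a' := (D.map t1).left) (b' := 𝟙 _) ((Category.comp_id _).trans (Category.id_comp _).symm)
      ⟨v, rfl⟩
  -- the difference on the overlap
  let R : X.ProEt := pullback q q
  have hR : IsPullback (pullback.fst q q) (pullback.snd q q) q q := IsPullback.of_hasPullback _ _
  have hRc : CompactSpace R.left := by
    have : QuasiCompact (pullback.fst q q).left :=
      MorphismProperty.of_isPullback (P := @QuasiCompact) (EpsB0.isPullback_left hR).flip hqc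
    exact QuasiCompact.compactSpace_of_compactSpace (pullback.fst q q).left
  obtain ⟨k2, t2, H2⟩ := exists_res_eq_zero D c hc haff (Q := R) (pullback.fst q q ≫ q)
    (res (pullback.fst q q) x - res (pullback.snd q q) x) (by
      intro P a b hab
      rw [res_sub, sub_eq_zero, ← res_comp, ← res_comp]
      rw [hx P _ b ((Category.assoc _ _ _).trans hab), hx P _ b ?_]
      rw [Category.assoc, ← pullback.condition]
      exact hab)
  obtain ⟨l, u1, u2, hu⟩ := IsCofiltered.cospan t1 t2
  let t : l ⟶ k := u1 ≫ t1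
  let Ql : X.ProEt := pullback q (D.map t)
  let ql : Ql ⟶ D.obj l := pullback.snd _ _
  let fl : Ql ⟶ Q := pullback.fst _ _
  have hQl : IsPullback fl ql q (D.map t) := IsPullback.of_hasPullback _ _
  have hsurj : Surjective ql.left := by
    refine ⟨fun v => ?_⟩
    obtain ⟨w, hw⟩ := hs1 ((D.map u1).left v)
    have e1 : (D.map t).left v = (D.map t1).left ((D.map u1).left v) := by
      have : D.map t = D.map u1 ≫ D.map t1 := D.map_comp _ _
      rw [this]
      rfl
    obtain ⟨z, -, hz2⟩ := Scheme.exists_preimage_of_isPullback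
      (EpsB0.isPullback_left hQl) w v (hw.trans e1.symm)
    exact ⟨z, hz2⟩
  have hqcl : QuasiCompact ql.left :=
    MorphismProperty.of_isPullback (P := @QuasiCompact) (EpsB0.isPullback_left hQl) hqc
  obtain ⟨z, hz⟩ := ShElem.exists_of_single ((ProEtS.epsPull X).obj F).property ql
    (WCBasic.generate_singleton_mem ql) (res fl x) (by
      intro Z a b hab
      change res a (res fl x) = res b (res fl x)
      rw [← res_comp, ← res_comp]
      have e2 : (a ≫ fl) ≫ q = (b ≫ fl) ≫ q := by
        rw [Category.assoc, Category.assoc, hQl.w, ← Category.assoc, hab, Category.assoc]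
      let w : Z ⟶ R := hR.lift (a ≫ fl) (b ≫ fl) e2
      have hw1 : w ≫ pullback.fst q q = a ≫ fl := hR.lift_fst _ _ _
      have hw2 : w ≫ pullback.snd q q = b ≫ fl := hR.lift_snd _ _ _
      have h3 := H2 Z w ((a ≫ ql) ≫ D.map u2) (by
        rw [← Category.assoc, hw1, Category.assoc, hQl.w]
        have : D.map t = D.map u2 ≫ D.map t2 := by
          rw [← D.map_comp, ← hu]
        rw [this]
        simp only [Category.assoc])
      rw [res_sub, sub_eq_zero, ← res_comp, ← res_comp, hw1, hw2] at h3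
      exact h3)
  refine ⟨l, z, ?_⟩
  rw [← sub_eq_zero]
  apply eq_zero_of_van_eq_univ
  ext o
  simp only [Set.mem_univ, iff_true]
  obtain ⟨v, hv⟩ := hsurj.surj ((c.π.app l).left o)
  obtain ⟨P, a, b, p, hab, -, hp⟩ := exists_pullback ql (c.π.app l) v o hv
  refine ⟨P, b, p, hp, ?_⟩
  have hz' : res ql z = res fl x := hz
  rw [res_sub, sub_eq_zero, ← res_comp, ← hab, res_comp, hz', ← res_comp]
  refine hx P _ b ?_
  rw [Category.assoc, hQl.w, ← Category.assoc, hab, Category.assoc, c.w]

include hc haff in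
/-- **Sections of `eps⁻¹ F` commute with cofiltered limits.** -/
theorem nonempty_isColimit [∀ i, CompactSpace (D.obj i).left]
    [∀ i, QuasiSeparatedSpace (D.obj i).left] :
    Nonempty (IsColimit (((ProEtS.epsPull X).obj F).obj.mapCocone c.op)) := by
  have hpres : PreservesFilteredColimitsOfSize.{u, u} (forget AddCommGrpCat.{u + 1}) :=
    preservesFilteredColimitsOfSize_of_univLE.{u + 1, u + 1, u, u} _
  have : PreservesColimitsOfShape Iᵒᵖ (forget AddCommGrpCat.{u + 1}) :=
    PreservesFilteredColimitsOfSize.preserves_filtered_colimits _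
  refine CohtopA.FiltColim.nonempty_isColimit_of_elements _ ?_ ?_
  · intro x
    obtain ⟨l, z, hz⟩ := exists_section D c hc haff (F := F) x
    exact ⟨op l, z, hz⟩
  · intro j y hy
    obtain ⟨k, t, H⟩ := exists_res_eq_zero D c hc haff (F := F) (j := j.unop) (Q := D.obj j.unop)
      (𝟙 _) y (by
        intro P a b hab
        have h1 : res (c.π.app j.unop) y = 0 := hy
        rw [Category.comp_id] at hab
        rw [hab, res_comp, h1, res_zero])
    exact ⟨op k, t.op, H _ (D.map t) (𝟙 _) ((Category.comp_id _).trans (Category.id_comp _).symm)⟩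

end K371.LimSec
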