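import Groth.Agent.Etcore.ShriekExact
import Mathlib.CategoryTheory.Sites.Over
import Mathlib.CategoryTheory.Sites.Pullback
import Mathlib.CategoryTheory.Preadditive.Injective.Basic

/-!
# Restriction of sheaves along `Over.map f` preserves injectives

For a morphism `f : X ⟶ Y` in a category `C` with a topology, the left adjoint of the restriction
`Sh(C/Y) ⥤ Sh(C/X)` of abelian sheaves is exact: the left Kan extension along `(Over.map f).op` is
a coproduct indexed by the lifts `V ⟶ X` of `V ⟶ Y`.
-/

set_option autoImplicit false
open CategoryTheory CategoryTheory.Limits Opposite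

namespace K371.OverMapShriek

universe w v u

section

variable {C : Type u} [Category.{v} C] {X Y : C} (f : X ⟶ Y)

/-- lifts of the structure morphism of `V : Over Y` to `X`. -/
def LiftIdx (V : Over Y) : Type (max w v) := ULift.{w} {g : V.left ⟶ X // g ≫ f = V.hom}

variable {f} in
/-- the object of `Over X` given by a lift -/
def liftObj {V : Over Y} (φ : LiftIdx.{w} f V) : Over X := Over.mk φ.down.1

variable {f} in
/-- the canonical map -/
def liftHom {V : Over Y} (φ : LiftIdx.{w} f V) : V ⟶ (Over.map f).obj (liftObj φ) :=
  Over.homMk (𝟙 V.left) ((Category.id_comp _).trans φ.down.2)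

/-- the discrete category of lifts inside the costructured arrows -/
def discFunctor (V : Over Y) :
    Discrete (LiftIdx.{w} f V) ⥤ CostructuredArrow (Over.map f).op (op V) :=
  Discrete.functor (fun φ =>
    CostructuredArrow.mk (Y := op (liftObj φ)) (liftHom φ).op)

instance final_disc (V : Over Y) : (discFunctor.{w} f V).Final where
  out c := by
    have hne : Nonempty (StructuredArrow c (discFunctor.{w} f V)) := by
      let a : V ⟶ (Over.map f).obj c.left.unop := c.hom.unop
      have ha : (a.left ≫ c.left.unop.hom) ≫ f = V.hom := by
        have := Over.w a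
        simpa using this
      let φ : LiftIdx.{w} f V := ⟨⟨a.left ≫ c.left.unop.hom, ha⟩⟩
      let g : liftObj φ ⟶ c.left.unop := Over.homMk a.left rfl
      refine ⟨StructuredArrow.mk (Y := Discrete.mk φ) (CostructuredArrow.homMk g.op ?_)⟩
      apply Quiver.Hom.unop_inj
      apply Over.OverMorphism.ext
      exact Category.id_comp _
    refine @zigzag_isConnected _ _ hne ?_
    intro p q
    obtain ⟨⟨⟨⟩⟩, ⟨φ⟩, g⟩ := p
    obtain ⟨⟨⟨⟩⟩, ⟨ψ⟩, h⟩ := q
    have hg : g.left.unop.left = c.hom.unop.left := by
      have := congrArg (fun k => k.unop.left) (CostructuredArrow.w g)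
      exact (Category.id_comp _).symm.trans this
    have hh : h.left.unop.left = c.hom.unop.left := by
      have := congrArg (fun k => k.unop.left) (CostructuredArrow.w h)
      exact (Category.id_comp _).symm.trans this
    have h1 : φ = ψ := by
      have e1 : g.left.unop.left ≫ c.left.unop.hom = φ.down.1 := Over.w g.left.unop
      have e2 : h.left.unop.left ≫ c.left.unop.hom = ψ.down.1 := Over.w h.left.unop
      apply ULift.ext
      apply Subtype.ext
      rw [← e1, ← e2, hg, hh]
      rfl
    subst h1
    have h2 : g = h := by
      apply CostructuredArrow.hom_ext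
      apply Quiver.Hom.unop_inj
      apply Over.OverMorphism.ext
      rw [hg, hh]
    subst h2
    exact Zigzag.refl _

end

section

variable {C : Type (u + 1)} [Category.{u} C] {X Y : C} (f : X ⟶ Y)

instance hasExactColimitsOfShape_costr (V : (Over Y)ᵒᵖ) :
    HasExactColimitsOfShape (CostructuredArrow (Over.map f).op V) AddCommGrpCat.{u + 1} :=
  hasExactColimitsOfShape_of_final _ (discFunctor.{u + 1} f V.unop)

instance preservesFiniteLimits_lan :
    PreservesFiniteLimits ((Over.map f).op.lan :
      ((Over X)ᵒᵖ ⥤ AddCommGrpCat.{u + 1}) ⥤ _) where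
  preservesFiniteLimits J _ _ :=
    Groth.Agent.Etcore.ShriekExact.preservesLimitsOfShape_lan J _ (fun W => inferInstance)

variable (J : GrothendieckTopology C)

/-- The left adjoint of the restriction along `Over.map f` is exact. -/
theorem preservesFiniteLimits_sheafPullback :
    PreservesFiniteLimits ((Over.map f).sheafPullback AddCommGrpCat.{u + 1} (J.over X) (J.over Y)) := by
  have : PreservesFiniteLimits ((Over.map f).op.lan ⋙
      presheafToSheaf (J.over Y) AddCommGrpCat.{u + 1}) :=
    comp_preservesFiniteLimits _ _
  have : PreservesFiniteLimits (Functor.sheafPullbackConstruction.sheafPullback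
      (Over.map f) AddCommGrpCat.{u + 1} (J.over X) (J.over Y)) :=
    comp_preservesFiniteLimits _ _
  exact preservesFiniteLimits_of_natIso
    (Functor.sheafPullbackConstruction.sheafPullbackIso
      (Over.map f) AddCommGrpCat.{u + 1} (J.over X) (J.over Y)).symm

/-- Restriction of abelian sheaves along `Over.map f` preserves injectives. -/
theorem injective_overMapPullback (I : Sheaf (J.over Y) AddCommGrpCat.{u + 1}) [Injective I] :
    Injective ((J.overMapPullback AddCommGrpCat.{u + 1} f).obj I) := by
  have := preservesFiniteLimits_sheafPullback f J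
  exact Injective.injective_of_adjoint
    ((Over.map f).sheafAdjunctionContinuous AddCommGrpCat.{u + 1} (J.over X) (J.over Y)) I

end

end K371.OverMapShriek
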