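import Groth.Agent.Proet.EpsSec229
import Groth.Agent.Proet.WCClopen
import Groth.Agent.Proet.EpsB0

/-!
# The vanishing locus of a section of `eps⁻¹ F`

For `z ∈ (eps⁻¹ F)(W)`, `Van F z` is the set of points of `W` in the image of some `f : V ⟶ W` with
`f^* z = 0`.  It is open, compatible with pullback, and `h^* z = 0` as soon as `h` lands in it.
-/

set_option autoImplicit false
universe u

open CategoryTheory CategoryTheory.Limits AlgebraicGeometry Opposite

namespace K371.VanLocus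

set_option backward.isDefEq.respectTransparency.types false

open Groth.Agent Groth.Agent.Proet Groth.Agent.Proet.RpushEps Groth.Agent.Proet.EpsSec229
  Groth.Agent.EtpbcA.EqLocus

variable {X : Scheme.{u}} [ProEtS.EpsCont X] (F : EtCoh.Ab X)

/-- sections of `eps⁻¹ F` -/
noncomputable abbrev Sec (W : X.ProEt) : Type (u + 1) := ((ProEtS.epsPull X).obj F).obj.obj (op W)

variable {F}

/-- restriction of sections of `eps⁻¹ F` -/
noncomputable abbrev res {W V : X.ProEt} (f : V ⟶ W) (z : Sec F W) : Sec F V :=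
  ((ProEtS.epsPull X).obj F).obj.map f.op z

theorem res_comp {W V U : X.ProEt} (f : V ⟶ W) (g : U ⟶ V) (z : Sec F W) :
    res (g ≫ f) z = res g (res f z) :=
  ConcreteCategory.congr_hom (((ProEtS.epsPull X).obj F).obj.map_comp f.op g.op) z

theorem res_id {W : X.ProEt} (z : Sec F W) : res (𝟙 W) z = z :=
  ConcreteCategory.congr_hom (((ProEtS.epsPull X).obj F).obj.map_id (op W)) z

theorem res_zero {W V : X.ProEt} (f : V ⟶ W) : res f (0 : Sec F W) = 0 :=
  map_zero (((ProEtS.epsPull X).obj F).obj.map f.op).hom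

theorem res_sub {W V : X.ProEt} (f : V ⟶ W) (y z : Sec F W) : res f (y - z) = res f y - res f z :=
  map_sub (((ProEtS.epsPull X).obj F).obj.map f.op).hom y z

/-- The vanishing locus. -/
def Van {W : X.ProEt} (z : Sec F W) : Set W.left :=
  {w | ∃ (V : X.ProEt) (f : V ⟶ W) (v : V.left), f.left v = w ∧ res f z = 0}

omit [ProEtS.EpsCont X] in
theorem exists_pullback {V W W' : X.ProEt} (f : V ⟶ W) (h : W' ⟶ W) (v : V.left) (w : W'.left)
    (e : f.left v = h.left w) : ∃ (P : X.ProEt) (a : P ⟶ V) (b : P ⟶ W') (p : P.left),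
      a ≫ f = b ≫ h ∧ a.left p = v ∧ b.left p = w := by
  obtain ⟨p, hp1, hp2⟩ := Scheme.exists_preimage_of_isPullback
    (EpsB0.isPullback_left (IsPullback.of_hasPullback f h)) v w e
  exact ⟨pullback f h, pullback.fst f h, pullback.snd f h, p, pullback.condition, hp1, hp2⟩

theorem van_res {W W' : X.ProEt} (h : W' ⟶ W) (z : Sec F W) :
    Van (res h z) = h.left ⁻¹' Van z := by
  ext w
  constructor
  · rintro ⟨V, f, v, rfl, hz⟩
    refine ⟨V, f ≫ h, v, rfl, ?_⟩
    rw [res_comp, hz]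
  · rintro ⟨V, f, v, hv, hz⟩
    obtain ⟨P, a, b, p, hab, hap, hbp⟩ := exists_pullback f h v w hv
    refine ⟨P, b, p, hbp, ?_⟩
    rw [← res_comp, ← hab, res_comp, hz, res_zero]

theorem br_zero {T : X.ProEt} {U : X.Etale} (g : T ⟶ (ProEtS.eps X).obj U) :
    br F g 0 = 0 := by
  have := br_sub F g 0 0
  rwa [sub_self, sub_self] at this

theorem van_br {T : X.ProEt} {U : X.Etale} (g : T ⟶ (ProEtS.eps X).obj U) (s : EtCoh.sect F U) :
    Van (br F g s) = g.left ⁻¹' (eqLocus (F := F) s 0 : Set U.left) := by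
  ext w
  constructor
  · rintro ⟨V, f, v, rfl, hz⟩
    have h1 : br F (f ≫ g) s = br F (f ≫ g) 0 := by
      rw [br_zero, ← map_br]
      exact hz
    exact (br_eq_iff F (f ≫ g) s 0).1 h1 ⟨v, rfl⟩
  · intro hw
    let g₁ : T.left ⟶ U.left := g.left
    let O : T.left.Opens := g₁ ⁻¹ᵁ (eqLocus (F := F) s 0)
    refine ⟨WCClopen.openObj T O, WCClopen.openHom T O, ⟨w, hw⟩, rfl, ?_⟩
    change ((ProEtS.epsPull X).obj F).obj.map _ (br F g s) = 0
    rw [map_br, ← br_zero (WCClopen.openHom T O ≫ g), br_eq_iff]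
    rintro _ ⟨x, rfl⟩
    exact x.2

theorem isOpen_van {W : X.ProEt} (z : Sec F W) : IsOpen (Van z) := by
  obtain ⟨S, hS, H⟩ := exists_br F z
  rw [isOpen_iff_forall_mem_open]
  intro w hw
  obtain ⟨A, hA, hwA, -⟩ := exists_isAffineOpen_mem_and_subset (x := w) (U := ⊤) trivial
  let V : X.ProEt := WCClopen.openObj W A
  let v : V ⟶ W := WCClopen.openHom W A
  have hVa : IsAffine V.left := hA
  obtain ⟨n, Y, g, hY, hg, hSg⟩ := CoverFin.exists_finite_affine_refinement
    ((Scheme.ProEt.topology X).pullback_stable v hS)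
  have hv : IsOpen (Van (res v z)) := by
    let p : WCBasic.sigmaObj Y ⟶ V := WCBasic.sigmaDesc Y g
    have hp1 : Surjective p.left := WCBasic.surjective_sigmaDesc Y g (fun x => by
      obtain ⟨i, y, hy⟩ := hg x
      exact ⟨i, y, hy⟩)
    have hp2 : IsAffine (WCBasic.sigmaObj Y).left := WCBasic.isAffine_sigmaObj Y hY
    have hp3 : QuasiCompact p.left := inferInstance
    have hp4 : Flat p.left := inferInstance
    have hq : Topology.IsQuotientMap p.left := Flat.isQuotientMap_of_surjective _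
    rw [← hq.isOpen_preimage]
    rw [← van_res]
    -- check on the pieces
    have h1 : ∀ i, IsOpen ((WCBasic.sigmaι Y i).left ⁻¹' (Van (res p (res v z)))) := by
      intro i
      rw [← van_res, ← res_comp, ← res_comp, WCBasic.sigmaι_desc]
      obtain ⟨U, g', s, hs⟩ := H (Y i) (g i ≫ v) (hSg i)
      have : res (g i ≫ v) z = br F g' s := hs
      rw [this, van_br]
      exact (eqLocus (F := F) s 0).2.preimage g'.left.continuous
    have h2 : Van (res p (res v z)) = ⋃ i, (WCBasic.sigmaι Y i).left ''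
        ((WCBasic.sigmaι Y i).left ⁻¹' (Van (res p (res v z)))) := by
      ext x
      simp only [Set.mem_iUnion, Set.image_preimage_eq_inter_range, Set.mem_inter_iff]
      constructor
      · intro hx
        obtain ⟨i, hi⟩ := WCBasic.sigmaι_cover Y x
        exact ⟨i, hx, hi⟩
      · rintro ⟨i, hx, -⟩
        exact hx
    rw [h2]
    refine isOpen_iUnion fun i => ?_
    have := WCBasic.sigmaι_openImmersion Y i
    exact (WCBasic.sigmaι Y i).left.isOpenEmbedding.isOpenMap _ (h1 i)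
  rw [van_res] at hv
  refine ⟨A.ι '' (A.ι ⁻¹' (Van z)), ?_, A.ι.isOpenEmbedding.isOpenMap _ hv, ?_⟩
  · rintro _ ⟨x, hx, rfl⟩
    exact hx
  · exact ⟨⟨w, hwA⟩, hw, rfl⟩

theorem eq_zero_of_van_eq_univ {W : X.ProEt} (z : Sec F W) (h : Van z = Set.univ) : z = 0 := by
  obtain ⟨S, hS, H⟩ := exists_br F z
  refine ((ProEtS.epsPull X).obj F).isSeparated W S hS z 0 ?_
  intro T f hf
  obtain ⟨U, g, s, hs⟩ := H T f hf
  refine hs.trans ((Eq.trans ?_ (br_zero g)).trans (res_zero f).symm)
  rw [br_eq_iff]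
  have h1 : Van (br F g s) = Set.univ := by
    have h2 : Van (res f z) = Set.univ := by rw [van_res, h]; rfl
    rwa [show res f z = br F g s from hs] at h2
  rw [van_br] at h1
  rintro _ ⟨x, rfl⟩
  have : x ∈ g.left ⁻¹' (eqLocus (F := F) s 0 : Set U.left) := h1 ▸ trivial
  exact this

theorem res_eq_zero_of_range_subset {W W' : X.ProEt} (h : W' ⟶ W) (z : Sec F W)
    (hr : Set.range h.left ⊆ Van z) : res h z = 0 := by
  apply eq_zero_of_van_eq_univ
  rw [van_res]
  ext x
  simp only [Set.mem_preimage, Set.mem_univ, iff_true]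
  exact hr ⟨x, rfl⟩

/-- Every section of `eps⁻¹ F` over `T` is, etale locally on `T`, restricted from an etale object. -/
theorem exists_etale_rep {T : X.ProEt} (y : Sec F T) (t : T.left) :
    ∃ (U : X.Etale) (s : EtCoh.sect F U), ∀ (P : X.ProEt) (p : P ⟶ T)
      (q : P ⟶ (ProEtS.eps X).obj U), (∀ (Z : X.ProEt) (a : Z ⟶ T) (b : Z ⟶ (ProEtS.eps X).obj U),
        ∃ l : Z ⟶ P, l ≫ p = a ∧ l ≫ q = b) →
      ∃ o : P.left, p.left o = t ∧ o ∈ Van (res p y - br F q s) := by
  obtain ⟨S, hS, H⟩ := exists_br F y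
  obtain ⟨T', f, t', hf, rfl⟩ := exists_mem_range hS t
  obtain ⟨U, g, s, hs⟩ := H T' f hf
  refine ⟨U, s, fun P p q hP => ?_⟩
  obtain ⟨l, rfl, rfl⟩ := hP T' f g
  refine ⟨l.left t', rfl, T', l, t', rfl, ?_⟩
  rw [res_sub, ← res_comp]
  have h1 : res (l ≫ p) y = br F (l ≫ q) s := hs
  have h2 : res l (br F q s) = br F (l ≫ q) s := map_br F l q s
  rw [h1, h2, sub_self]

end K371.VanLocus
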